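import Cfsg.Agent.H274.IF.Phi
import Cfsg.Agent.H989.Gs.Gen

/-!
# S5719 (involution fixity), orthogonal groups, `q` odd: the isometries with square `-1` (helper274)

* `card_sqNeg` : a nondegenerate quadratic space of dimension `2 M` over a field with `q` elements, `q` odd, has at most
  `q ^ (M ^ 2)` isometries with square `-1`.
* **`class_sq_neg`** : `|E Q : C(t)| ≤ q ^ (M ^ 2)` for `t ∈ E Q`, `t ^ 2 = -1`.
-/

set_option autoImplicit false
set_option linter.unusedSectionVars false

namespace Cfsg.Agent.H274.IF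

open QuadraticMap hiding proj
open Module Cfsg.Agent.LieClassical.OrthCore Cfsg.Agent.LieClassical.OrthTrans Cfsg.Agent.H989.Gs.Gen

universe u v

/-- index by an injection -/
theorem index_le_of {G α : Type*} [Group G] [Finite α] (H : Subgroup G) (f : G → α)
    (hf : ∀ a b, f a = f b → a⁻¹ * b ∈ H) : H.index ≤ Nat.card α := by
  refine Nat.card_le_card_of_injective (fun x : G ⧸ H => f x.out) ?_
  intro x y hxy
  have h1 := hf _ _ hxy
  rwa [← QuotientGroup.eq, QuotientGroup.out_eq', QuotientGroup.out_eq'] at h1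

section

variable {F V : Type*} [Field F] [AddCommGroup V] [Module F V] {Q : QuadraticForm F V}

/-- the linear isometries with square `-1` -/
def SqNeg (Q : QuadraticForm F V) : Type _ := {τ : V →ₗ[F] V // (∀ v, Q (τ v) = Q v) ∧ ∀ v, τ (τ v) = -v}

theorem SqNeg.pol (τ : SqNeg Q) (x y : V) : polar Q (τ.1 x) (τ.1 y) = polar Q x y := by
  simp only [QuadraticMap.polar, ← map_add, τ.2.1]

theorem SqNeg.pol' (τ : SqNeg Q) (x y : V) : polar Q x (τ.1 y) = -polar Q (τ.1 x) y := by
  rw [← τ.pol x (τ.1 y), τ.2.2, polar_neg_right]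

theorem SqNeg.pol_self (τ : SqNeg Q) (h2 : (2 : F) ≠ 0) (v : V) : polar Q v (τ.1 v) = 0 := by
  have h1 := τ.pol' v v
  rw [polar_comm Q (τ.1 v) v] at h1
  have h3 : (2 : F) * polar Q v (τ.1 v) = 0 := by linear_combination h1
  exact (mul_eq_zero.1 h3).resolve_left h2

variable {e f : V} {a : F}

/-- an orthogonal pair of vectors with `Q e = Q f = a` -/
structure OP (Q : QuadraticForm F V) (a : F) (e f : V) : Prop where
  qe : Q e = a
  qf : Q f = a
  ef : polar Q e f = 0

theorem OP.ee (h : OP Q a e f) : polar Q e e = 2 * a := by rw [polar_self', h.qe]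

theorem OP.ff (h : OP Q a e f) : polar Q f f = 2 * a := by rw [polar_self', h.qf]

theorem OP.fe (h : OP Q a e f) : polar Q f e = 0 := by rw [polar_comm, h.ef]

/-- decomposition -/
theorem OP.decomp (h : OP Q a e f) (h2 : (2 : F) ≠ 0) (ha : a ≠ 0) (v : V) :
    ∃ (x y : F) (w : Wp Q e f), v = x • e + y • f + w := by
  have h2a : 2 * a ≠ 0 := mul_ne_zero h2 ha
  refine ⟨(2 * a)⁻¹ * polar Q e v, (2 * a)⁻¹ * polar Q f v,
    ⟨v - ((2 * a)⁻¹ * polar Q e v) • e - ((2 * a)⁻¹ * polar Q f v) • f, mem_Wp.2 ⟨?_, ?_⟩⟩, ?_⟩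
  · simp only [polar_sub_right, polar_smul_right, h.ee, h.ef, smul_eq_mul]
    field_simp
    ring
  · simp only [polar_sub_right, polar_smul_right, h.ff, h.fe, smul_eq_mul]
    field_simp
    ring
  · simp only
    abel

theorem OP.finrank [FiniteDimensional F V] (h : OP Q a e f) (h2 : (2 : F) ≠ 0) (ha : a ≠ 0) :
    finrank F (Wp Q e f) + 2 = finrank F V := by
  have h2a : 2 * a ≠ 0 := mul_ne_zero h2 ha
  have h1 := LinearMap.finrank_range_add_finrank_ker ((polarBilin Q e).prod (polarBilin Q f))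
  have h3 : LinearMap.range ((polarBilin Q e).prod (polarBilin Q f)) = ⊤ := by
    rw [LinearMap.range_eq_top]
    rintro ⟨x, y⟩
    refine ⟨((2 * a)⁻¹ * x) • e + ((2 * a)⁻¹ * y) • f, ?_⟩
    show (polar Q e (((2 * a)⁻¹ * x) • e + ((2 * a)⁻¹ * y) • f),
      polar Q f (((2 * a)⁻¹ * x) • e + ((2 * a)⁻¹ * y) • f)) = (x, y)
    simp only [polar_add_right, polar_smul_right, h.ee, h.ef, h.fe, h.ff, smul_eq_mul, mul_zero, zero_add, add_zero]
    congr 1 <;> field_simp
  rw [h3, finrank_top, finrank_prod, finrank_self] at h1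
  rw [Wp]
  omega

theorem OP.nondeg (h : OP Q a e f) (h2 : (2 : F) ≠ 0) (ha : a ≠ 0) (hQ : Nondeg Q) : Nondeg (Qp Q e f) := by
  intro x hx
  apply Subtype.ext
  apply hQ
  intro v
  obtain ⟨b, c, w, rfl⟩ := h.decomp h2 ha v
  have h1 := mem_Wp.1 x.2
  rw [polar_add_right, polar_add_right, polar_smul_right, polar_smul_right, polar_comm Q (x : V) e,
    polar_comm Q (x : V) f, h1.1, h1.2, ← polar_Qp, hx w]
  simp

/-- the restriction of an isometry with square `-1` -/
def SqNeg.restr (τ : SqNeg Q) (hτ : τ.1 e = f) : SqNeg (Qp Q e f) :=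
  ⟨τ.1.restrict (p := Wp Q e f) (q := Wp Q e f) (by
      intro v hv
      have h1 := mem_Wp.1 hv
      have hf : τ.1 f = -e := by rw [← hτ, τ.2.2]
      refine mem_Wp.2 ⟨?_, ?_⟩
      · rw [τ.pol', hτ, h1.2, neg_zero]
      · rw [τ.pol', hf, polar_neg_left, h1.1, neg_zero, neg_zero]),
    fun v => τ.2.1 v, fun v => Subtype.ext (τ.2.2 v)⟩

theorem SqNeg.restr_coe (τ : SqNeg Q) (hτ : τ.1 e = f) (w : Wp Q e f) : ((τ.restr hτ).1 w : V) = τ.1 w := rfl

theorem SqNeg.ext_of (h : OP Q a e f) (h2 : (2 : F) ≠ 0) (ha : a ≠ 0) {τ τ' : SqNeg Q} (hτ : τ.1 e = f)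
    (hτ' : τ'.1 e = f) (H : τ.restr hτ = τ'.restr hτ') : τ = τ' := by
  apply Subtype.ext
  apply LinearMap.ext
  intro v
  obtain ⟨x, y, w, rfl⟩ := h.decomp h2 ha v
  have hf : τ.1 f = -e := by rw [← hτ, τ.2.2]
  have hf' : τ'.1 f = -e := by rw [← hτ', τ'.2.2]
  have hw : τ.1 (w : V) = τ'.1 (w : V) := by rw [← τ.restr_coe hτ, H, τ'.restr_coe hτ']
  rw [map_add, map_add, map_add, map_add, map_smul, map_smul, map_smul, map_smul, hτ, hτ', hf, hf', hw]

/-- a nonsingular vector -/
theorem exists_nonsing_vec (hQ : Nondeg Q) {x : V} (hx : x ≠ 0) : ∃ v, Q v ≠ 0 := by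
  obtain ⟨y, hy⟩ := hQ.exists_polar_ne hx
  by_contra hcon
  push Not at hcon
  apply hy
  rw [QuadraticMap.polar, hcon, hcon, hcon]
  ring

end

/-- **the number of isometries with square `-1`** -/
theorem card_sqNeg {F : Type v} [Field F] [Finite F] (h2 : (2 : F) ≠ 0) (M : ℕ) :
    ∀ (V : Type u) [AddCommGroup V] [Module F V] [FiniteDimensional F V] (Q : QuadraticForm F V), Nondeg Q →
      finrank F V = 2 * M → Nat.card (SqNeg Q) ≤ Nat.card F ^ (M ^ 2) := by
  classical
  induction M with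
  | zero =>
    intro V _ _ _ Q hQ hV
    have hs : Subsingleton V := finrank_zero_iff.1 (by omega)
    have h1 : Subsingleton (SqNeg Q) := ⟨fun a b => Subtype.ext (LinearMap.ext fun v => Subsingleton.elim _ _)⟩
    rw [show (0 : ℕ) ^ 2 = 0 by norm_num, pow_zero]
    exact Finite.card_le_one_iff_subsingleton.2 h1
  | succ M IH =>
    intro V _ _ _ Q hQ hV
    have hVf : Finite V := Module.finite_of_finite F
    have hLf : Finite (V →ₗ[F] V) := Finite.of_injective _ DFunLike.coe_injective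
    have hSf : Finite (SqNeg Q) := Subtype.finite
    have := Fintype.ofFinite (SqNeg Q)
    have := Fintype.ofFinite V
    have hnt : Nontrivial V := Module.nontrivial_of_finrank_pos (R := F) (by omega)
    obtain ⟨x, hx⟩ := exists_ne (0 : V)
    obtain ⟨e, he⟩ := exists_nonsing_vec hQ hx
    have he0 : e ≠ 0 := by
      rintro rfl
      exact he (QuadraticMap.map_zero Q)
    -- the image
    let D : Submodule F V := LinearMap.ker (polarBilin Q e)
    have hD : Nat.card D = Nat.card F ^ (2 * M + 1) := by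
      rw [Module.natCard_eq_pow_finrank (K := F)]
      congr 1
      have h3 := LinearMap.finrank_range_add_finrank_ker (polarBilin Q e)
      have h4 : LinearMap.range (polarBilin Q e) = ⊤ := by
        rw [LinearMap.range_eq_top]
        intro c
        obtain ⟨y, hy⟩ := hQ.exists_polar_eq he0 c
        exact ⟨y, hy⟩
      rw [h4, finrank_top, finrank_self] at h3
      show finrank F (LinearMap.ker (polarBilin Q e)) = _
      omega
    have hmem : ∀ τ : SqNeg Q, τ.1 e ∈ D := fun τ => τ.pol_self h2 e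
    have key : Fintype.card (SqNeg Q) ≤ Nat.card F ^ (M ^ 2) * (Finset.univ.image fun τ : SqNeg Q => τ.1 e).card := by
      refine Finset.card_le_mul_card_image _ _ ?_
      intro f hf
      obtain ⟨τ₀, -, hτ₀⟩ := Finset.mem_image.1 hf
      have hop : OP Q (Q e) e f := ⟨rfl, by rw [← hτ₀]; exact τ₀.2.1 e, by rw [← hτ₀]; exact τ₀.pol_self h2 e⟩
      have hfr := hop.finrank h2 he
      have hIH := IH (Wp Q e f) (Qp Q e f) (hop.nondeg h2 he hQ) (by omega)
      have hWf : Finite (Wp Q e f →ₗ[F] Wp Q e f) := Finite.of_injective _ DFunLike.coe_injective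
      have hWSf : Finite (SqNeg (Qp Q e f)) := Subtype.finite
      refine le_trans ?_ hIH
      have h5 : (Finset.univ.filter fun τ : SqNeg Q => τ.1 e = f).card = Nat.card {τ : SqNeg Q // τ.1 e = f} := by
        rw [Nat.card_eq_fintype_card, Fintype.card_subtype]
      rw [h5]
      refine Nat.card_le_card_of_injective (fun τ : {τ : SqNeg Q // τ.1 e = f} => τ.1.restr τ.2) ?_
      rintro ⟨τ, hτ⟩ ⟨τ', hτ'⟩ H
      exact Subtype.ext (SqNeg.ext_of hop h2 he hτ hτ' H)
    have hDc : (Finset.univ.image fun τ : SqNeg Q => τ.1 e).card ≤ Nat.card D := by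
      have h6 : Nat.card D = (Finset.univ.filter fun v : V => v ∈ D).card := by
        rw [Nat.card_eq_fintype_card]
        exact Fintype.card_subtype _
      rw [h6]
      refine Finset.card_le_card fun v hv => ?_
      obtain ⟨τ, -, rfl⟩ := Finset.mem_image.1 hv
      exact Finset.mem_filter.2 ⟨Finset.mem_univ _, hmem τ⟩
    rw [Nat.card_eq_fintype_card]
    refine key.trans ((Nat.mul_le_mul_left _ hDc).trans (le_of_eq ?_))
    rw [hD, ← pow_add]
    congr 1
    ring

section

variable {F V : Type*} [Field F] [AddCommGroup V] [Module F V] {Q : QuadraticForm F V}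

theorem class_sq_neg [Finite F] [FiniteDimensional F V] (h2 : (2 : F) ≠ 0) (hQ : Nondeg Q) (M : ℕ)
    (hM : finrank F V = 2 * M) (t : ↥(E Q)) (ht : ∀ v, ap t (ap t v) = -v) :
    (Subgroup.centralizer ({t} : Set ↥(E Q))).index ≤ Nat.card F ^ (M ^ 2) := by
  have hVf : Finite V := Module.finite_of_finite F
  have hLf : Finite (V →ₗ[F] V) := Finite.of_injective _ DFunLike.coe_injective
  have hSf : Finite (SqNeg Q) := Subtype.finite
  refine (index_le_of _ (fun g => (⟨((g * t * g⁻¹ : ↥(E Q)) : V ≃ₗ[F] V).toLinearMap, ?_, ?_⟩ : SqNeg Q)) ?_).trans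
    (card_sqNeg h2 M V Q hQ hM)
  · intro v
    exact E_le_O (g * t * g⁻¹).2 v
  · intro v
    show ap (g * t * g⁻¹) (ap (g * t * g⁻¹) v) = -v
    rw [ap_mul, ap_mul, ap_mul, ap_mul, ap_inv_ap, ht, ap_neg, ap_ap_inv]
  · intro a b hab
    have h1 : a * t * a⁻¹ = b * t * b⁻¹ := by
      apply ext_ap
      intro v
      exact LinearMap.congr_fun (congrArg Subtype.val hab) v
    rw [Subgroup.mem_centralizer_iff]
    intro s hs
    have hs' : s = t := hs
    rw [hs']
    have h4 : (a⁻¹ * b) * t = a⁻¹ * (b * t * b⁻¹) * b := by group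
    rw [h4, ← h1]
    group

end

end Cfsg.Agent.H274.IF
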