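import Cfsg.Agent.H274.IF.Phi
import Cfsg.Agent.H989.Fx.OmF

/-!
# S5719 (involution fixity), orthogonal groups, `q` odd: PHI without hypotheses (helper274)

`Cfsg.Agent.H989.Fx.Fund` is the fundamental involution of helper989.

* `phi_rel` : relative, `q ^ psi M * c ≤ |E Q × Γ : X|`.
* `phi_single` : `q ^ psi M ≤ |E Q : X|`; `phi_two` : `q ^ (psi M₁ + psi M₂) ≤ |E Q₁ × E Q₂ : X|`.
* `phi_hom` : for a homomorphism `E Q₁ × E Q₂ →* G` and `A ≤ G`.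
-/

set_option autoImplicit false
set_option linter.unusedSectionVars false

namespace Cfsg.Agent.H274.IF

open Module Cfsg.Agent.LieClassical.OrthCore Cfsg.Agent.LieClassical.OrthTrans Cfsg.Agent.AutOrth.SemiSim

universe u v w

theorem fund_iff {F V : Type*} [Field F] [AddCommGroup V] [Module F V] {Q : QuadraticForm F V} {z : ↥(E Q)} :
    Fund Q z ↔ Cfsg.Agent.H989.Fx.Fund Q z := by
  constructor
  · rintro ⟨e₁, f₁, e₂, f₂, h1, h2, h3, h4, h5, h6, z1, z2, z3, z4, hz⟩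
    exact ⟨e₁, f₁, e₂, f₂, ⟨h1, h2, h3, h4, h5, h6⟩, z1, z2, z3, z4, hz⟩
  · rintro ⟨e₁, f₁, e₂, f₂, h, z1, z2, z3, z4, hz⟩
    exact ⟨e₁, f₁, e₂, f₂, h.h1, h.h2, h.ee, h.ef, h.fe, h.ff, z1, z2, z3, z4, hz⟩

variable {F : Type v} [Field F] [Finite F]

theorem exSing (h2 : (2 : F) ≠ 0) : ExSing.{u, v} F := by
  intro V _ _ _ Q hQ h5 X hX
  obtain ⟨e, f, h, hc⟩ := Cfsg.Agent.H989.Fx.exists_sing h2 hQ (by omega) X fun z hz hz' => hX z (fund_iff.2 hz') hz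
  exact ⟨e, h.left, h.left_ne, hc⟩

/-- **the relative PHI** -/
theorem phi_rel {Γ : Type w} [Group Γ] [Finite Γ] (h2 : (2 : F) ≠ 0) (Z' : Set Γ) (hZ2 : ∀ z ∈ Z', z * z = 1)
    (hZc : ∀ g : Γ, ∀ z ∈ Z', g * z * g⁻¹ ∈ Z') (c : ℕ) (hc : ∀ Y : Subgroup Γ, (∀ y ∈ Y, y ∉ Z') → c ≤ Y.index)
    {V : Type u} [AddCommGroup V] [Module F V] [FiniteDimensional F V] {Q : QuadraticForm F V} (hQ : Nondeg Q)
    (X : Subgroup (↥(E Q) × Γ)) (hX : ∀ z, Cfsg.Agent.H989.Fx.Fund Q z → (z, (1 : Γ)) ∉ X)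
    (hX' : ∀ z ∈ Z', ((1 : ↥(E Q)), z) ∉ X) : Nat.card F ^ psi (finrank F V) * c ≤ X.index :=
  phi_of h2 (exSing h2) Z' hZ2 hZc c hc _ V Q hQ rfl X (fun z hz => hX z (fund_iff.1 hz)) hX'

/-- **one factor** -/
theorem phi_single (h2 : (2 : F) ≠ 0) {V : Type u} [AddCommGroup V] [Module F V] [FiniteDimensional F V]
    {Q : QuadraticForm F V} (hQ : Nondeg Q) (X : Subgroup ↥(E Q))
    (hX : ∀ z, Cfsg.Agent.H989.Fx.Fund Q z → z ∉ X) : Nat.card F ^ psi (finrank F V) ≤ X.index :=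
  phi_one h2 (exSing h2) hQ X fun z hz => hX z (fund_iff.1 hz)

/-- **two factors** -/
theorem phi_two (h2 : (2 : F) ≠ 0) {V₁ : Type u} [AddCommGroup V₁] [Module F V₁]
    [FiniteDimensional F V₁] {Q₁ : QuadraticForm F V₁} (hQ₁ : Nondeg Q₁) {V₂ : Type u} [AddCommGroup V₂] [Module F V₂]
    [FiniteDimensional F V₂] {Q₂ : QuadraticForm F V₂} (hQ₂ : Nondeg Q₂) (X : Subgroup (↥(E Q₁) × ↥(E Q₂)))
    (hX₁ : ∀ z, Cfsg.Agent.H989.Fx.Fund Q₁ z → (z, (1 : ↥(E Q₂))) ∉ X)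
    (hX₂ : ∀ z, Cfsg.Agent.H989.Fx.Fund Q₂ z → ((1 : ↥(E Q₁)), z) ∉ X) :
    Nat.card F ^ (psi (finrank F V₁) + psi (finrank F V₂)) ≤ X.index :=
  phi_prod h2 (exSing h2) hQ₁ hQ₂ X (fun z hz => hX₁ z (fund_iff.1 hz)) fun z hz => hX₂ z (fund_iff.1 hz)

/-- one factor, for a homomorphism `φ : E Q →* G` and `A ≤ G` -/
theorem phi_single_hom (h2 : (2 : F) ≠ 0) {V : Type u} [AddCommGroup V] [Module F V] [FiniteDimensional F V]
    {Q : QuadraticForm F V} (hQ : Nondeg Q) {G : Type*} [Group G] (φ : ↥(E Q) →* G) (A : Subgroup G)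
    (hX : ∀ z, Cfsg.Agent.H989.Fx.Fund Q z → φ z ∉ A) : Nat.card F ^ psi (finrank F V) ≤ A.relIndex φ.range := by
  rw [← Subgroup.index_comap]
  exact phi_single h2 hQ _ fun z hz hz' => hX z hz hz'

/-- two factors, for a homomorphism `φ : E Q₁ × E Q₂ →* G` and `A ≤ G` -/
theorem phi_two_hom (h2 : (2 : F) ≠ 0) {V₁ : Type u} [AddCommGroup V₁] [Module F V₁]
    [FiniteDimensional F V₁] {Q₁ : QuadraticForm F V₁} (hQ₁ : Nondeg Q₁) {V₂ : Type u} [AddCommGroup V₂] [Module F V₂]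
    [FiniteDimensional F V₂] {Q₂ : QuadraticForm F V₂} (hQ₂ : Nondeg Q₂) {G : Type*} [Group G]
    (φ : ↥(E Q₁) × ↥(E Q₂) →* G) (A : Subgroup G)
    (hX₁ : ∀ z, Cfsg.Agent.H989.Fx.Fund Q₁ z → φ (z, 1) ∉ A)
    (hX₂ : ∀ z, Cfsg.Agent.H989.Fx.Fund Q₂ z → φ (1, z) ∉ A) :
    Nat.card F ^ (psi (finrank F V₁) + psi (finrank F V₂)) ≤ A.relIndex φ.range := by
  rw [← Subgroup.index_comap]
  exact phi_two h2 hQ₁ hQ₂ _ (fun z hz hz' => hX₁ z hz hz') fun z hz hz' => hX₂ z hz hz'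

end Cfsg.Agent.H274.IF
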